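import Mathlib
import Groth.Agent.H29CSA.Subfield
import Groth.Agent.H29CSA.Centralizer

/-!
# Cyclic algebras

An algebra containing a cyclic field extension `K` and a unit `y` inducing the generator `σ`.
-/

set_option autoImplicit false

universe u v w

namespace Groth.Agent.H23CSA.Cyclic

variable {k : Type u} [Field k] {K : Type v} [Field K] [Algebra k K] [FiniteDimensional k K]
  [IsGalois k K] {σ : K ≃ₐ[k] K}

theorem orderOf_eq (hσ : ∀ τ : K ≃ₐ[k] K, τ ∈ Subgroup.zpowers σ) :
    orderOf σ = Module.finrank k K := by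
  rw [← IsGalois.card_aut_eq_finrank k K]
  exact orderOf_eq_card_of_forall_mem_zpowers hσ

theorem exists_ne (hσ : ∀ τ : K ≃ₐ[k] K, τ ∈ Subgroup.zpowers σ)
    {i j : Fin (Module.finrank k K)} (h : i ≠ j) :
    ∃ x : K, (σ ^ (i : ℕ)) x ≠ (σ ^ (j : ℕ)) x := by
  by_contra hc
  push Not at hc
  exact h (Fin.ext (pow_injOn_Iio_orderOf (by simp [orderOf_eq hσ])
    (by simp [orderOf_eq hσ]) (AlgEquiv.ext hc)))

/-- A set of coefficient vectors stable under the commutator operations contains a vector with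
singleton support as soon as it contains a nonzero vector. -/
theorem exists_single (hσ : ∀ τ : K ≃ₐ[k] K, τ ∈ Subgroup.zpowers σ)
    (P : Set (Fin (Module.finrank k K) → K))
    (hP : ∀ c ∈ P, ∀ x : K, ∀ j : Fin (Module.finrank k K),
      (fun i : Fin (Module.finrank k K) => ((σ ^ (i : ℕ)) x - (σ ^ (j : ℕ)) x) * c i) ∈ P)
    (c : Fin (Module.finrank k K) → K) (hc : c ∈ P) (hc0 : c ≠ 0) :
    ∃ d ∈ P, ∃ j, d j ≠ 0 ∧ ∀ i, i ≠ j → d i = 0 := by
  classical
  induction hcard : (Finset.univ.filter fun i => c i ≠ 0).card using Nat.strong_induction_on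
    generalizing c with
  | _ m ih =>
    obtain ⟨j, hj⟩ := Function.ne_iff.mp hc0
    simp only [Pi.zero_apply] at hj
    by_cases h : ∀ i, i ≠ j → c i = 0
    · exact ⟨c, hc, j, hj, h⟩
    push Not at h
    obtain ⟨i, hij, hi⟩ := h
    obtain ⟨x, hx⟩ := exists_ne hσ hij
    set d := fun i : Fin (Module.finrank k K) => ((σ ^ (i : ℕ)) x - (σ ^ (j : ℕ)) x) * c i with hd
    have hdi : d i ≠ 0 := mul_ne_zero (sub_ne_zero.mpr hx) hi
    refine ih (Finset.univ.filter fun i => d i ≠ 0).card ?_ d (hP c hc x j)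
      (fun h0 => hdi (by rw [h0]; rfl)) rfl
    rw [← hcard]
    refine Finset.card_lt_card (Finset.ssubset_iff_subset_ne.mpr ⟨fun l hl => ?_, fun h => ?_⟩)
    · simp only [Finset.mem_filter, Finset.mem_univ, true_and] at hl ⊢
      exact right_ne_zero_of_mul hl
    · have : j ∈ (Finset.univ.filter fun i => d i ≠ 0) := by
        rw [h]; simp [hj]
      simp [hd] at this

variable {A : Type w} [Ring A] [Algebra k A] (ι : K →ₐ[k] A) (y : Aˣ)

/-- `c ↦ ∑ yⁱ ι(cᵢ)`. -/
noncomputable def coeffMap : (Fin (Module.finrank k K) → K) →ₗ[k] A :=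
  ∑ i : Fin (Module.finrank k K),
    LinearMap.mulLeft k ((y : A) ^ (i : ℕ)) ∘ₗ ι.toLinearMap ∘ₗ LinearMap.proj i

theorem coeffMap_apply (c : Fin (Module.finrank k K) → K) :
    coeffMap ι y c = ∑ i : Fin (Module.finrank k K), (y : A) ^ (i : ℕ) * ι (c i) := by
  simp [coeffMap]

variable (hrel : ∀ x : K, ι x * y = y * ι (σ x))
include hrel

theorem rel_pow (x : K) (i : ℕ) : ι x * (y : A) ^ i = (y : A) ^ i * ι ((σ ^ i) x) := by
  induction i generalizing x with
  | zero => simp
  | succ i ih =>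
    rw [pow_succ', ← mul_assoc, hrel, mul_assoc, ih, ← mul_assoc, pow_succ σ, AlgEquiv.mul_apply]

theorem coeffMap_comm (c : Fin (Module.finrank k K) → K) (x z : K) :
    ι x * coeffMap ι y c - coeffMap ι y c * ι z =
      coeffMap ι y (fun i => ((σ ^ (i : ℕ)) x - z) * c i) := by
  simp only [coeffMap_apply, Finset.mul_sum, Finset.sum_mul, ← Finset.sum_sub_distrib]
  refine Finset.sum_congr rfl fun i _ => ?_
  rw [← mul_assoc, rel_pow ι y hrel, mul_assoc, mul_assoc, ← map_mul, ← map_mul, ← mul_sub,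
    ← map_sub, sub_mul, mul_comm (c i) z]

variable (hσ : ∀ τ : K ≃ₐ[k] K, τ ∈ Subgroup.zpowers σ)
include hσ

theorem coeffMap_injective [Nontrivial A] : Function.Injective (coeffMap ι y) := by
  refine (injective_iff_map_eq_zero (coeffMap ι y)).mpr fun c hc => ?_
  by_contra hc0
  obtain ⟨d, hd, j, hj, h⟩ := exists_single hσ {c | coeffMap ι y c = 0}
    (fun c hc x j => by
      simp only [Set.mem_setOf_eq] at hc ⊢
      rw [← coeffMap_comm ι y hrel, hc, mul_zero, zero_mul, sub_zero]) c hc hc0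
  simp only [Set.mem_setOf_eq, coeffMap_apply] at hd
  rw [Finset.sum_eq_single j (fun i _ hi => by rw [h i hi, map_zero, mul_zero])
    (fun hn => absurd (Finset.mem_univ j) hn), ← Units.val_pow_eq_pow_val,
    Units.mul_right_eq_zero] at hd
  exact hj (ι.toRingHom.injective (by simpa using hd))

variable [FiniteDimensional k A] (hA : Module.finrank k A = Module.finrank k K ^ 2)
include hA

theorem coeffMap_surjective [Nontrivial A] : Function.Surjective (coeffMap ι y) :=
  (LinearMap.injective_iff_surjective_of_finrank_eq_finrank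
    (by rw [Module.finrank_pi_fintype, hA]; simp [sq])).mp (coeffMap_injective ι y hrel hσ)

theorem isSimpleRing [Nontrivial A] : IsSimpleRing A := by
  refine IsSimpleRing.of_eq_bot_or_eq_top fun I => or_iff_not_imp_left.mpr fun hI => ?_
  obtain ⟨z, hz, hz0⟩ : ∃ z ∈ I, z ≠ 0 := by
    by_contra h
    push Not at h
    exact hI (le_antisymm (fun z hz => (TwoSidedIdeal.mem_bot A).mpr (h z hz)) bot_le)
  obtain ⟨c, rfl⟩ := coeffMap_surjective ι y hrel hσ hA z
  obtain ⟨d, hd, j, hj, h⟩ := exists_single hσ {c | coeffMap ι y c ∈ I}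
    (fun c hc x j => by
      simp only [Set.mem_setOf_eq] at hc ⊢
      rw [← coeffMap_comm ι y hrel]
      exact I.sub_mem (I.mul_mem_left _ _ hc) (I.mul_mem_right _ _ hc)) c hz
    (fun h => hz0 (by rw [h, map_zero]))
  simp only [Set.mem_setOf_eq, coeffMap_apply] at hd
  rw [Finset.sum_eq_single j (fun i _ hi => by rw [h i hi, map_zero, mul_zero])
    (fun hn => absurd (Finset.mem_univ j) hn), ← Units.val_pow_eq_pow_val] at hd
  have hu : IsUnit ((↑(y ^ (j : ℕ)) : A) * ι (d j)) :=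
    (y ^ (j : ℕ)).isUnit.mul ((IsUnit.mk0 _ hj).map ι)
  rw [eq_top_iff]
  intro a _
  obtain ⟨u, hu'⟩ := hu
  have := I.mul_mem_left (a * ↑u⁻¹) _ hd
  rw [← hu', mul_assoc, Units.inv_mul, mul_one] at this
  exact this

theorem mem_range_of_comm [Nontrivial A] (z : A) (hz : ∀ x : K, ι x * z = z * ι x) :
    z ∈ Set.range ι := by
  obtain ⟨c, rfl⟩ := coeffMap_surjective ι y hrel hσ hA z
  have hpos : 0 < Module.finrank k K := Module.finrank_pos
  have h0 : ∀ i : Fin (Module.finrank k K), i ≠ ⟨0, hpos⟩ → c i = 0 := by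
    intro i hi
    obtain ⟨x, hx⟩ := exists_ne hσ hi
    have := coeffMap_comm ι y hrel c x x
    rw [hz x, sub_self] at this
    have := congrFun (coeffMap_injective ι y hrel hσ (this.symm.trans (map_zero _).symm)) i
    simp only [Pi.zero_apply, mul_eq_zero, sub_eq_zero] at this
    exact this.resolve_left (by simpa using hx)
  refine ⟨c ⟨0, hpos⟩, ?_⟩
  rw [coeffMap_apply, Finset.sum_eq_single (⟨0, hpos⟩ : Fin (Module.finrank k K))
    (fun i _ hi => by rw [h0 i hi, map_zero, mul_zero]) (fun hn => absurd (Finset.mem_univ _) hn)]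
  simp

theorem mem_algebraMap_of_comm [Nontrivial A] (z : A) (hz : ∀ x : K, ι x * z = z * ι x)
    (hy : (y : A) * z = z * y) : z ∈ Set.range (algebraMap k A) := by
  obtain ⟨c, rfl⟩ := mem_range_of_comm ι y hrel hσ hA z hz
  have hc : σ c = c := by
    refine ι.toRingHom.injective ?_
    have := hrel c
    rw [← hy] at this
    exact (Units.mul_right_inj y).mp this.symm
  have hfix : ∀ τ : K ≃ₐ[k] K, τ c = c := fun τ => by
    obtain ⟨i, rfl⟩ := hσ τ
    exact MulAction.mem_stabilizer_iff.mp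
      ((Subgroup.zpowers_le.mpr (show σ ∈ MulAction.stabilizer (K ≃ₐ[k] K) c from hc))
        ⟨i, rfl⟩)
  obtain ⟨r, hr⟩ := (IsGalois.mem_range_algebraMap_iff_fixed (F := k) c).mpr hfix
  exact ⟨r, by rw [← hr, AlgHom.commutes]⟩

theorem isCentral [Nontrivial A] : Algebra.IsCentral k A := by
  refine ⟨fun z hz => ?_⟩
  rw [Subalgebra.mem_center_iff] at hz
  obtain ⟨r, hr⟩ := mem_algebraMap_of_comm ι y hrel hσ hA z (fun x => hz (ι x)) (hz y)
  exact Algebra.mem_bot.mpr ⟨r, hr⟩

theorem adjoin_eq_top [Nontrivial A] :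
    Algebra.adjoin k (Set.range ι ∪ {(y : A)}) = ⊤ := by
  refine eq_top_iff.mpr fun a _ => ?_
  obtain ⟨c, rfl⟩ := coeffMap_surjective ι y hrel hσ hA a
  rw [coeffMap_apply]
  refine Subalgebra.sum_mem _ fun i _ => Subalgebra.mul_mem _ (Subalgebra.pow_mem _ ?_ _) ?_
  · exact Algebra.subset_adjoin (Set.mem_union_right _ rfl)
  · exact Algebra.subset_adjoin (Set.mem_union_left _ ⟨_, rfl⟩)

end Groth.Agent.H23CSA.Cyclic
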