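import Mathlib
import Groth.Prelude.Def_GSzCSA
import Groth.Agent.H23CSA.Cyclic

/-!
# Cyclic algebras: universal property, products, existence
-/

set_option autoImplicit false

open scoped TensorProduct
open Fin.NatCast

universe u v w w'

namespace Groth.Agent.H23CSA.Cyclic

variable {k : Type u} [Field k] {K : Type v} [Field K] [Algebra k K] [FiniteDimensional k K]

/-- A unit version of the generators in `IsCyclicAlg`. -/
theorem exists_unit_of_isCyclicAlg {σ : K ≃ₐ[k] K} {b : kˣ} {A : Type w} [Ring A] [Algebra k A]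
    (hA : CSAGal.IsCyclicAlg k K σ b A) :
    Nontrivial A ∧ FiniteDimensional k A ∧ Module.finrank k A = Module.finrank k K ^ 2 ∧
      ∃ (ι : K →ₐ[k] A) (y : Aˣ), (y : A) ^ Module.finrank k K = algebraMap k A (b : k) ∧
        ∀ x : K, ι x * y = y * ι (σ x) := by
  obtain ⟨ι, y, hyn, hrel, _, hpos, hdim⟩ := hA
  have hfd : FiniteDimensional k A := FiniteDimensional.of_finrank_pos (by rw [hdim]; positivity)
  have hnt : Nontrivial A := Module.nontrivial_of_finrank_pos (R := k) (by rw [hdim]; positivity)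
  obtain ⟨u, rfl⟩ : IsUnit y := by
    have : IsUnit (y ^ Module.finrank k K) := by
      rw [hyn]; exact b.isUnit.map _
    exact (isUnit_pow_iff hpos.ne').mp this
  exact ⟨hnt, hfd, hdim, ι, u, hyn, hrel⟩

variable [IsGalois k K] {σ : K ≃ₐ[k] K}

/-- The span of `yⁱ ι(K)` is stable under left multiplication by generators. -/
theorem coeffMap_range_mul_mem {A : Type w} [Ring A] [Algebra k A] (ι : K →ₐ[k] A) (y : Aˣ)
    (hrel : ∀ x : K, ι x * y = y * ι (σ x)) (b : k)
    (hyn : (y : A) ^ Module.finrank k K = algebraMap k A b)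
    (g : A) (hg : g ∈ Algebra.adjoin k (Set.range ι ∪ {(y : A)})) :
    g ∈ LinearMap.range (coeffMap ι y) := by
  classical
  set n := Module.finrank k K with hn
  set R := LinearMap.range (coeffMap ι y) with hR
  have hmem : ∀ i : ℕ, i < n → ∀ c : K, (y : A) ^ i * ι c ∈ R := by
    intro i hi c
    refine ⟨Pi.single ⟨i, hi⟩ c, ?_⟩
    rw [coeffMap_apply, Finset.sum_eq_single (⟨i, hi⟩ : Fin n)]
    · simp
    · intro j _ hj; simp [Pi.single_eq_of_ne hj]
    · simp
  have hgen : ∀ z : A, z ∈ Algebra.adjoin k (Set.range ι ∪ {(y : A)}) → ∀ r ∈ R, z * r ∈ R := by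
    intro z hz
    induction hz using Algebra.adjoin_induction with
    | mem z hz =>
      rintro _ ⟨c, rfl⟩
      rw [coeffMap_apply, Finset.mul_sum]
      refine Submodule.sum_mem _ fun i _ => ?_
      rcases hz with ⟨x, rfl⟩ | hz
      · rw [← mul_assoc, rel_pow ι y hrel, mul_assoc, ← map_mul]
        exact hmem _ i.isLt _
      · rw [Set.mem_singleton_iff] at hz
        subst hz
        rw [← mul_assoc, ← pow_succ']
        rcases (show (i : ℕ) + 1 < n ∨ (i : ℕ) + 1 = n by omega) with h | h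
        · exact hmem _ h _
        · rw [h, hyn, ← AlgHom.commutes ι, ← map_mul]
          simpa using hmem 0 Module.finrank_pos (algebraMap k K b * c i)
    | algebraMap r =>
      intro z hz
      rw [← Algebra.smul_def]
      exact R.smul_mem _ hz
    | add p q _ _ hp hq =>
      intro z hz
      rw [add_mul]
      exact R.add_mem (hp z hz) (hq z hz)
    | mul p q _ _ hp hq =>
      intro z hz
      rw [mul_assoc]
      exact hp _ (hq z hz)
  have h1 : (1 : A) ∈ R := by simpa using hmem 0 Module.finrank_pos 1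
  simpa using hgen g hg 1 h1

/-- The universal property of a cyclic algebra. -/
theorem exists_algHom_cyclic (hσ : ∀ τ : K ≃ₐ[k] K, τ ∈ Subgroup.zpowers σ)
    {A : Type w} [Ring A] [Algebra k A] [Nontrivial A] [FiniteDimensional k A]
    (hdim : Module.finrank k A = Module.finrank k K ^ 2) (ι : K →ₐ[k] A) (y : Aˣ) (b : kˣ)
    (hyn : (y : A) ^ Module.finrank k K = algebraMap k A (b : k))
    (hrel : ∀ x : K, ι x * y = y * ι (σ x))
    {B : Type w'} [Ring B] [Algebra k B] (ι' : K →ₐ[k] B) (y' : B)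
    (hyn' : y' ^ Module.finrank k K = algebraMap k B (b : k))
    (hrel' : ∀ x : K, ι' x * y' = y' * ι' (σ x)) :
    ∃ φ : A →ₐ[k] B, (∀ x, φ (ι x) = ι' x) ∧ φ y = y' := by
  obtain ⟨u, rfl⟩ : IsUnit y' := by
    have : IsUnit (y' ^ Module.finrank k K) := by
      rw [hyn']; exact b.isUnit.map _
    exact (isUnit_pow_iff Module.finrank_pos.ne').mp this
  let ιC : K →ₐ[k] A × B := ι.prod ι'
  let yC : (A × B)ˣ := MulEquiv.prodUnits.symm (y, u)
  have hyC : (yC : A × B) = ((y : A), (u : B)) := rfl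
  have hrelC : ∀ x : K, ιC x * yC = yC * ιC (σ x) := fun x => by
    rw [hyC]; exact Prod.ext (hrel x) (hrel' x)
  have hynC : (yC : A × B) ^ Module.finrank k K = algebraMap k (A × B) (b : k) := by
    rw [hyC]; exact Prod.ext hyn hyn'
  set S := Algebra.adjoin k (Set.range ιC ∪ {(yC : A × B)}) with hS
  let p : S →ₐ[k] A := (AlgHom.fst k A B).comp S.val
  have hsurj : Function.Surjective p := by
    intro a
    have : a ∈ (S.map (AlgHom.fst k A B)) := by
      rw [hS, AlgHom.map_adjoin, Set.image_union, Set.image_singleton, ← Set.range_comp]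
      have := adjoin_eq_top ι y hrel hσ hdim
      show a ∈ Algebra.adjoin k (Set.range ι ∪ {(y : A)})
      rw [this]; trivial
    obtain ⟨s, hs, rfl⟩ := this
    exact ⟨⟨s, hs⟩, rfl⟩
  have hinj : Function.Injective p := by
    refine (injective_iff_map_eq_zero p).mpr ?_
    rintro ⟨s, hs⟩ h0
    obtain ⟨c, rfl⟩ := coeffMap_range_mul_mem ιC yC hrelC (b : k) hynC s hs
    have : coeffMap ι y c = 0 := by
      rw [← h0]
      simp [p, coeffMap_apply, hyC, ιC]
    obtain rfl : c = 0 := coeffMap_injective ι y hrel hσ (this.trans (map_zero _).symm)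
    exact Subtype.ext (map_zero (coeffMap ιC yC))
  let e : S ≃ₐ[k] A := AlgEquiv.ofBijective p ⟨hinj, hsurj⟩
  refine ⟨((AlgHom.snd k A B).comp S.val).comp e.symm.toAlgHom, fun x => ?_, ?_⟩
  · have h : e.symm (ι x) = ⟨ιC x, Algebra.subset_adjoin (Or.inl ⟨x, rfl⟩)⟩ := by
      rw [AlgEquiv.symm_apply_eq]; rfl
    show (AlgHom.snd k A B) ((e.symm (ι x) : A × B)) = ι' x
    rw [h]; rfl
  · have h : e.symm (y : A) = ⟨(yC : A × B), Algebra.subset_adjoin (Or.inr rfl)⟩ := by
      rw [AlgEquiv.symm_apply_eq]; rfl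
    show (AlgHom.snd k A B) ((e.symm (y : A) : A × B)) = u
    rw [h]; rfl

section shift

variable {n : ℕ} [NeZero n]

/-- The weighted cyclic shift matrix. -/
def shift (R : Type*) [Semiring R] (w : Fin n → R) : Matrix (Fin n) (Fin n) R :=
  Matrix.of fun i j => if i = j + 1 then w j else 0

theorem shift_pow {R : Type*} [CommSemiring R] (w : Fin n → R) (m : ℕ) :
    shift R w ^ m = Matrix.of fun i j =>
      if i = j + (m : Fin n) then ∏ l ∈ Finset.range m, w (j + (l : Fin n)) else 0 := by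
  induction m with
  | zero => ext i j; simp [Matrix.one_apply]
  | succ m ih =>
    ext i j
    rw [pow_succ, ih, Matrix.mul_apply, Finset.sum_eq_single (j + 1)]
    · simp only [shift, Matrix.of_apply, if_true, Nat.cast_add, Nat.cast_one]
      rw [show j + 1 + (m : Fin n) = j + ((m : Fin n) + 1) by abel]
      split_ifs with h
      · rw [Finset.prod_range_succ', mul_comm, Nat.cast_zero, add_zero, mul_comm]
        congr 1
        refine Finset.prod_congr rfl fun l _ => ?_
        rw [Nat.cast_add, Nat.cast_one]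
        congr 1
        abel
      · simp
    · intro b _ hb
      simp [shift, hb]
    · simp

theorem shift_pow_self {R : Type*} [CommSemiring R] (w : Fin n → R) :
    shift R w ^ n = Matrix.scalar (Fin n) (∏ i, w i) := by
  rw [shift_pow]
  ext i j
  simp only [Matrix.of_apply, Fin.natCast_self, add_zero, Matrix.scalar_apply,
    Matrix.diagonal_apply]
  split_ifs with h
  · rw [← Fin.prod_univ_eq_prod_range (fun l => w (j + (l : Fin n))) n]
    exact Fintype.prod_equiv (Equiv.addLeft j) _ _ fun l => by simp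
  · rfl

theorem exists_shift {R : Type*} [CommSemiring R] (b : R) :
    ∃ w : Fin n → R, shift R w ^ n = Matrix.scalar (Fin n) b :=
  ⟨Function.update 1 0 b, by
    rw [shift_pow_self, Finset.prod_update_of_mem (Finset.mem_univ _)]
    simp⟩

end shift

theorem pow_finrank_eq_one (hσ : ∀ τ : K ≃ₐ[k] K, τ ∈ Subgroup.zpowers σ) :
    σ ^ Module.finrank k K = 1 := by
  rw [← orderOf_eq hσ]; exact pow_orderOf_eq_one σ

theorem pow_fin_succ (hσ : ∀ τ : K ≃ₐ[k] K, τ ∈ Subgroup.zpowers σ)
    [NeZero (Module.finrank k K)] (j : Fin (Module.finrank k K)) :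
    σ ^ ((j + 1 : Fin (Module.finrank k K)) : ℕ) = σ ^ (j : ℕ) * σ := by
  rw [← pow_succ, pow_eq_pow_iff_modEq, orderOf_eq hσ]
  unfold Nat.ModEq
  rw [Fin.val_add, Nat.mod_mod, Fin.val_one', Nat.add_mod_mod]

/-- The twisted diagonal commutes past the shift up to `σ`. -/
theorem twist_mul_shift (hσ : ∀ τ : K ≃ₐ[k] K, τ ∈ Subgroup.zpowers σ)
    [NeZero (Module.finrank k K)] {C : Type w} [Ring C] [Algebra k C] (ι : K →ₐ[k] C) (x : K)
    (w : Fin (Module.finrank k K) → k) :
    Matrix.diagonal (fun i : Fin (Module.finrank k K) => ι ((σ ^ (i : ℕ)) x)) *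
        (shift k w).map (algebraMap k C) =
      (shift k w).map (algebraMap k C) *
        Matrix.diagonal (fun i : Fin (Module.finrank k K) => ι ((σ ^ (i : ℕ)) (σ x))) := by
  ext i j
  rw [Matrix.diagonal_mul, Matrix.mul_diagonal]
  simp only [Matrix.map_apply, shift, Matrix.of_apply]
  split_ifs with h
  · subst h
    rw [← Algebra.commutes]
    congr 2
    rw [pow_fin_succ hσ, AlgEquiv.mul_apply]
  · simp

/-- Cyclic algebras exist for every parameter. -/
theorem exists_isCyclicAlg (hσ : ∀ τ : K ≃ₐ[k] K, τ ∈ Subgroup.zpowers σ) (b : kˣ) :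
    ∃ (B : Type v) (_ : Ring B) (_ : Algebra k B), CSAGal.IsCyclicAlg k K σ b B := by
  classical
  set n := Module.finrank k K with hn
  haveI : NeZero n := ⟨Module.finrank_pos.ne'⟩
  let ι : K →ₐ[k] Matrix (Fin n) (Fin n) K :=
    (Matrix.diagonalAlgHom k).comp (AlgHom.pi fun i => (σ ^ (i : ℕ)).toAlgHom)
  obtain ⟨w, hw⟩ := exists_shift (n := n) (b : k)
  set Y : Matrix (Fin n) (Fin n) K := (shift k w).map (algebraMap k K) with hY
  have hY' : Y = (Algebra.ofId k K).mapMatrix (shift k w) := rfl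
  have hyn : Y ^ n = algebraMap k _ (b : k) := by
    rw [hY', ← map_pow, hw, show Matrix.scalar (Fin n) (b : k) = algebraMap k _ (b : k) from rfl,
      AlgHom.commutes]
  obtain ⟨u, hu⟩ : IsUnit Y := by
    have : IsUnit (Y ^ n) := by rw [hyn]; exact b.isUnit.map _
    exact (isUnit_pow_iff Module.finrank_pos.ne').mp this
  have hrel : ∀ x : K, ι x * u = u * ι (σ x) := fun x => by
    rw [hu]
    exact twist_mul_shift hσ (AlgHom.id k K) x w
  set S := Algebra.adjoin k (Set.range ι ∪ {(u : Matrix (Fin n) (Fin n) K)}) with hS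
  refine ⟨S, inferInstance, inferInstance, ι.codRestrict S fun x => Algebra.subset_adjoin (Or.inl ⟨x, rfl⟩),
    ⟨u, Algebra.subset_adjoin (Or.inr rfl)⟩, Subtype.ext ?_, fun x => Subtype.ext (hrel x), ?_,
    Module.finrank_pos, ?_⟩
  · show (u : Matrix (Fin n) (Fin n) K) ^ n = _
    rw [hu, hyn]; rfl
  · apply Subalgebra.map_injective (f := S.val) Subtype.val_injective
    rw [AlgHom.map_adjoin, Algebra.map_top, Subalgebra.range_val, Set.image_union,
      Set.image_singleton, ← Set.range_comp]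
    rfl
  · have hr : Subalgebra.toSubmodule S = LinearMap.range (coeffMap ι u) := by
      refine le_antisymm (fun g hg => coeffMap_range_mul_mem ι u hrel (b : k) (by rw [hu, hyn]) g hg) ?_
      rintro _ ⟨c, rfl⟩
      rw [coeffMap_apply]
      refine Subalgebra.sum_mem _ fun i _ => Subalgebra.mul_mem _ (Subalgebra.pow_mem _ ?_ _) ?_
      · exact Algebra.subset_adjoin (Or.inr rfl)
      · exact Algebra.subset_adjoin (Or.inl ⟨_, rfl⟩)
    rw [← Subalgebra.finrank_toSubmodule, hr, LinearMap.finrank_range_of_inj (coeffMap_injective ι u hrel hσ),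
      Module.finrank_pi_fintype]
    simp [sq, hn]

/-- The product of two cyclic algebras maps onto matrices over the cyclic algebra of the product. -/
theorem exists_tensor_equiv (hσ : ∀ τ : K ≃ₐ[k] K, τ ∈ Subgroup.zpowers σ) (b b' : kˣ)
    {A : Type w} {A' : Type w'} {C : Type*} [Ring A] [Algebra k A] [Ring A'] [Algebra k A'] [Ring C] [Algebra k C]
    (hA : CSAGal.IsCyclicAlg k K σ b A) (hA' : CSAGal.IsCyclicAlg k K σ b' A')
    (hC : CSAGal.IsCyclicAlg k K σ (b * b') C) :
    Nonempty (A ⊗[k] A' ≃ₐ[k] Matrix (Fin (Module.finrank k K)) (Fin (Module.finrank k K)) C) := by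
  classical
  obtain ⟨_, _, hdA, ιA, yA, hynA, hrelA⟩ := exists_unit_of_isCyclicAlg hA
  obtain ⟨_, _, hdA', ιA', yA', hynA', hrelA'⟩ := exists_unit_of_isCyclicAlg hA'
  obtain ⟨_, _, hdC, ιC, yC, hynC, hrelC⟩ := exists_unit_of_isCyclicAlg hC
  have := isSimpleRing ιA yA hrelA hσ hdA
  have := isCentral ιA' yA' hrelA' hσ hdA'
  have := isSimpleRing ιA' yA' hrelA' hσ hdA'
  have := Groth.Agent.H29CSA.tensor_isSimpleRing k A A'
  set n := Module.finrank k K with hn
  haveI : NeZero n := ⟨Module.finrank_pos.ne'⟩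
  let ι1 : K →ₐ[k] Matrix (Fin n) (Fin n) C := (Matrix.scalarAlgHom (Fin n) k).comp ιC
  let ι2 : K →ₐ[k] Matrix (Fin n) (Fin n) C :=
    (Matrix.diagonalAlgHom k).comp (AlgHom.pi fun i => ιC.comp (σ ^ (i : ℕ)).toAlgHom)
  obtain ⟨w, hw⟩ := exists_shift (n := n) (b' : k)
  set P : Matrix (Fin n) (Fin n) C := (shift k w).map (algebraMap k C) with hP
  have hPn : P ^ n = algebraMap k _ (b' : k) := by
    rw [show P = (Algebra.ofId k C).mapMatrix (shift k w) from rfl, ← map_pow, hw,
      show Matrix.scalar (Fin n) (b' : k) = algebraMap k _ (b' : k) from rfl, AlgHom.commutes]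
  obtain ⟨p, hp⟩ : IsUnit P := by
    have : IsUnit (P ^ n) := by rw [hPn]; exact b'.isUnit.map _
    exact (isUnit_pow_iff Module.finrank_pos.ne').mp this
  let Ys : (Matrix (Fin n) (Fin n) C)ˣ := Units.map (Matrix.scalar (Fin n)).toMonoidHom yC
  have hscalar : ∀ c : C, Commute (Matrix.scalar (Fin n) c) P := fun c => by
    ext i j
    simp [hP, Algebra.commutes]
  have hYP : Commute Ys p := Units.ext (by rw [Units.val_mul, Units.val_mul, hp]; exact hscalar _)
  let Y1 : (Matrix (Fin n) (Fin n) C)ˣ := Ys * p⁻¹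
  have h1n : (Y1 : Matrix (Fin n) (Fin n) C) ^ n = algebraMap k _ (b : k) := by
    have hu : Y1 ^ n = Units.map (algebraMap k (Matrix (Fin n) (Fin n) C)).toMonoidHom b := by
      rw [hYP.inv_right.mul_pow, inv_pow, mul_inv_eq_iff_eq_mul]
      refine Units.ext ?_
      simp only [Units.val_mul, Units.val_pow_eq_pow_val, hp, hPn, Units.coe_map]
      show Matrix.scalar (Fin n) (yC : C) ^ n = algebraMap k _ (b : k) * algebraMap k _ (b' : k)
      rw [← map_pow, hynC, ← map_mul, Units.val_mul]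
      rfl
    simpa using congrArg Units.val hu
  have h1r : ∀ x : K, ι1 x * Y1 = Y1 * ι1 (σ x) := fun x => by
    have e1 : Commute (ι1 (σ x)) ((p⁻¹ : (Matrix (Fin n) (Fin n) C)ˣ) : Matrix (Fin n) (Fin n) C) :=
      Commute.units_inv_right (by rw [hp]; exact hscalar _)
    have e2 : ι1 x * Ys = Ys * ι1 (σ x) := by
      show Matrix.scalar (Fin n) (ιC x) * Matrix.scalar (Fin n) (yC : C) =
        Matrix.scalar (Fin n) (yC : C) * Matrix.scalar (Fin n) (ιC (σ x))
      rw [← map_mul, ← map_mul, hrelC]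
    show ι1 x * ((Ys : Matrix (Fin n) (Fin n) C) * ((p⁻¹ : (Matrix (Fin n) (Fin n) C)ˣ) : Matrix (Fin n) (Fin n) C)) = (Ys : Matrix (Fin n) (Fin n) C) * ((p⁻¹ : (Matrix (Fin n) (Fin n) C)ˣ) : Matrix (Fin n) (Fin n) C) * ι1 (σ x)
    rw [← mul_assoc, e2, mul_assoc, e1.eq, ← mul_assoc]
  have h2r : ∀ x : K, ι2 x * P = P * ι2 (σ x) := fun x => twist_mul_shift hσ ιC x w
  obtain ⟨φ1, hφι, hφy⟩ := exists_algHom_cyclic hσ hdA ιA yA b hynA hrelA ι1 (Y1 : Matrix (Fin n) (Fin n) C) h1n h1r
  obtain ⟨φ2, hψι, hψy⟩ := exists_algHom_cyclic hσ hdA' ιA' yA' b' hynA' hrelA' ι2 P hPn h2r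
  have cι : ∀ x x' : K, Commute (ι1 x) (ι2 x') := fun x x' => by
    show Matrix.diagonal _ * Matrix.diagonal _ = Matrix.diagonal _ * Matrix.diagonal _
    simp [Matrix.diagonal_mul_diagonal, ← map_mul, mul_comm]
  have cY : ∀ x' : K, Commute (Y1 : Matrix (Fin n) (Fin n) C) (ι2 x') := fun x' => by
    have e1 : (Ys : Matrix (Fin n) (Fin n) C) * ι2 (σ x') = ι2 x' * Ys := by
      show Matrix.diagonal _ * Matrix.diagonal _ = Matrix.diagonal _ * Matrix.diagonal _
      rw [Matrix.diagonal_mul_diagonal, Matrix.diagonal_mul_diagonal]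
      refine congrArg _ (funext fun i => ?_)
      show (yC : C) * ιC ((σ ^ (i : ℕ)) (σ x')) = ιC ((σ ^ (i : ℕ)) x') * (yC : C)
      rw [hrelC, ← AlgEquiv.mul_apply, ← pow_succ, pow_succ', AlgEquiv.mul_apply]
    have e2 : (((p⁻¹ : (Matrix (Fin n) (Fin n) C)ˣ) : Matrix (Fin n) (Fin n) C) : Matrix (Fin n) (Fin n) C) * ι2 x' = ι2 (σ x') * ((p⁻¹ : (Matrix (Fin n) (Fin n) C)ˣ) : Matrix (Fin n) (Fin n) C) := by
      rw [Units.inv_mul_eq_iff_eq_mul, ← mul_assoc, hp, ← h2r, mul_assoc, ← hp, Units.mul_inv, mul_one]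
    show (Ys : Matrix (Fin n) (Fin n) C) * ((p⁻¹ : (Matrix (Fin n) (Fin n) C)ˣ) : Matrix (Fin n) (Fin n) C) * ι2 x' = ι2 x' * ((Ys : Matrix (Fin n) (Fin n) C) * ((p⁻¹ : (Matrix (Fin n) (Fin n) C)ˣ) : Matrix (Fin n) (Fin n) C))
    rw [mul_assoc, e2, ← mul_assoc, e1, mul_assoc]
  have hcomm : ∀ a a', Commute (φ1 a) (φ2 a') := by
    intro a a'
    have ha := adjoin_eq_top ιA yA hrelA hσ hdA ▸ (Algebra.mem_top : a ∈ (⊤ : Subalgebra k A))
    have ha' := adjoin_eq_top ιA' yA' hrelA' hσ hdA' ▸ (Algebra.mem_top : a' ∈ (⊤ : Subalgebra k A'))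
    have g1 : φ1 a ∈ Subalgebra.centralizer k ({P} ∪ Set.range ι2 : Set (Matrix (Fin n) (Fin n) C)) := by
      have : Algebra.adjoin k (Set.range ιA ∪ {(yA : A)}) ≤ (Subalgebra.centralizer k
          ({P} ∪ Set.range ι2 : Set (Matrix (Fin n) (Fin n) C))).comap φ1 := by
        refine Algebra.adjoin_le ?_
        rintro z (⟨x, rfl⟩ | rfl)
        · rw [SetLike.mem_coe, Subalgebra.mem_comap, Subalgebra.mem_centralizer_iff, hφι]
          rintro g (rfl | ⟨x', rfl⟩)
          · exact (hscalar _).symm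
          · exact (cι x x').symm
        · rw [SetLike.mem_coe, Subalgebra.mem_comap, Subalgebra.mem_centralizer_iff, hφy]
          rintro g (rfl | ⟨x', rfl⟩)
          · rw [← hp]
            exact congrArg Units.val ((hYP.mul_left ((Commute.refl p).inv_left)).symm : Commute p Y1)
          · exact (cY x').symm
      exact this ha
    rw [Subalgebra.mem_centralizer_iff] at g1
    have : Algebra.adjoin k (Set.range ιA' ∪ {(yA' : A')}) ≤
        (Subalgebra.centralizer k {φ1 a}).comap φ2 := by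
      refine Algebra.adjoin_le ?_
      rintro z (⟨x, rfl⟩ | rfl)
      · rw [SetLike.mem_coe, Subalgebra.mem_comap, Subalgebra.mem_centralizer_iff, hψι]
        rintro g rfl
        exact (g1 _ (Or.inr ⟨x, rfl⟩)).symm
      · rw [SetLike.mem_coe, Subalgebra.mem_comap, Subalgebra.mem_centralizer_iff, hψy]
        rintro g rfl
        exact (g1 _ (Or.inl rfl)).symm
    exact (Subalgebra.mem_centralizer_iff k).mp (this ha') _ rfl
  haveI : FiniteDimensional k (Matrix (Fin n) (Fin n) C) := inferInstance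
  refine ⟨Groth.Agent.H29CSA.equivOfFinrankEq (Algebra.TensorProduct.lift φ1 φ2 hcomm) ?_⟩
  rw [Module.finrank_tensorProduct, Module.finrank_matrix, hdA, hdA', hdC, Fintype.card_fin]
  ring

end Groth.Agent.H23CSA.Cyclic
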