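import Mathlib
import Groth.Prelude.Def_GSzCSA
import Groth.Agent.H23CSA.CyclicHom
import Groth.Agent.H29CSA.Brauer
import Groth.Agent.H29CSA.Split
import Groth.Agent.H29CSA.Centralizer

/-!
# Cyclic algebras: splitting and tensor powers
-/

set_option autoImplicit false

open scoped TensorProduct

universe u v w w'

namespace Groth.Agent.H23CSA.Cyclic

variable {k : Type u} [Field k] {K : Type v} [Field K] [Algebra k K] [FiniteDimensional k K]
  [IsGalois k K] {σ : K ≃ₐ[k] K}

theorem prod_powers_eq_norm (hσ : ∀ τ : K ≃ₐ[k] K, τ ∈ Subgroup.zpowers σ) (c : K) :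
    ∏ i ∈ Finset.range (Module.finrank k K), (σ⁻¹ ^ i) c = algebraMap k K (Algebra.norm k c) := by
  classical
  rw [Algebra.norm_eq_prod_automorphisms]
  have hn : orderOf σ⁻¹ = Module.finrank k K := by rw [orderOf_inv, orderOf_eq hσ]
  have hinj : Set.InjOn (fun i : ℕ => σ⁻¹ ^ i) (Finset.range (Module.finrank k K) : Set ℕ) := by
    rw [Finset.coe_range, ← hn]; exact pow_injOn_Iio_orderOf
  have himg : (Finset.range (Module.finrank k K)).image (fun i => σ⁻¹ ^ i) = Finset.univ := by
    refine Finset.eq_univ_of_card _ ?_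
    rw [Finset.card_image_of_injOn hinj, Finset.card_range, ← IsGalois.card_aut_eq_finrank k K,
      Nat.card_eq_fintype_card]
  rw [← himg, Finset.prod_image hinj]

/-- The semilinear endomorphism `v ↦ c · σ⁻¹ v`. -/
noncomputable def semiMul (σ : K ≃ₐ[k] K) (c : K) : Module.End k K :=
  LinearMap.mulLeft k c ∘ₗ (σ⁻¹ : K ≃ₐ[k] K).toLinearMap

theorem semiMul_apply (σ : K ≃ₐ[k] K) (c v : K) : semiMul σ c v = c * (σ⁻¹ : K ≃ₐ[k] K) v := rfl

theorem semiMul_rel (σ : K ≃ₐ[k] K) (c z : K) :
    Algebra.lmul k K z * semiMul σ c = semiMul σ c * Algebra.lmul k K (σ z) := by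
  refine LinearMap.ext fun v => ?_
  rw [Module.End.mul_apply, Module.End.mul_apply, semiMul_apply, semiMul_apply]
  simp only [Algebra.coe_lmul_eq_mul, LinearMap.mul_apply', map_mul]
  rw [show (σ⁻¹ : K ≃ₐ[k] K) (σ z) = z from σ.symm_apply_apply z]
  ring

theorem semiMul_pow (hσ : ∀ τ : K ≃ₐ[k] K, τ ∈ Subgroup.zpowers σ) (c : K) :
    semiMul σ c ^ Module.finrank k K = algebraMap k (Module.End k K) (Algebra.norm k c) := by
  have h : ∀ (m : ℕ) (v : K), (semiMul σ c ^ m) v =
      (∏ i ∈ Finset.range m, (σ⁻¹ ^ i) c) * (σ⁻¹ ^ m) v := by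
    intro m
    induction m with
    | zero => intro v; simp
    | succ m ih =>
      intro v
      rw [pow_succ, Module.End.mul_apply, ih, semiMul_apply, map_mul, Finset.prod_range_succ,
        pow_succ σ⁻¹, AlgEquiv.mul_apply, mul_assoc]
  refine LinearMap.ext fun v => ?_
  rw [h, prod_powers_eq_norm hσ, inv_pow, pow_finrank_eq_one hσ, inv_one, AlgEquiv.one_apply,
    Module.algebraMap_end_apply, Algebra.smul_def]

/-- A cyclic algebra is split iff its parameter is a norm. -/
theorem splits_iff_norm (hσ : ∀ τ : K ≃ₐ[k] K, τ ∈ Subgroup.zpowers σ) (b : kˣ)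
    {A : Type w} [Ring A] [Algebra k A] (hA : CSAGal.IsCyclicAlg k K σ b A) :
    Curves.Splits k A k ↔ ∃ x : K, Algebra.norm k x = (b : k) := by
  classical
  obtain ⟨_, _, hdim, ι, y, hyn, hrel⟩ := exists_unit_of_isCyclicAlg hA
  have := isSimpleRing ι y hrel hσ hdim
  have := isCentral ι y hrel hσ hdim
  set n := Module.finrank k K with hn
  let e0 : Matrix (Fin n) (Fin n) k ≃ₐ[k] Module.End k K :=
    (algEquivMatrix (Module.finBasis k K)).symm
  haveI : NeZero n := ⟨Module.finrank_pos.ne'⟩
  constructor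
  · rintro ⟨N, hN, ⟨e⟩⟩
    have hd := Groth.Agent.H29CSA.finrank_eq_sq_of_splits A k e
    obtain rfl : N = n := Nat.pow_left_injective (by norm_num) (hd.symm.trans hdim)
    let φ : A →ₐ[k] Module.End k K :=
      e0.toAlgHom.comp (e.toAlgHom.comp Algebra.TensorProduct.includeRight)
    have : IsSimpleRing (Module.End k K) :=
      IsSimpleRing.of_surjective e0.toRingEquiv.toRingHom inferInstance e0.surjective
    have : Algebra.IsCentral k (Module.End k K) := ⟨fun z hz => by
      have hz' : e0.symm z ∈ Subalgebra.center k (Matrix (Fin n) (Fin n) k) := by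
        rw [Subalgebra.mem_center_iff]
        intro M
        apply e0.injective
        rw [map_mul, map_mul, AlgEquiv.apply_symm_apply]
        exact Subalgebra.mem_center_iff.mp hz _
      obtain ⟨c, hc⟩ := (Algebra.IsCentral.mem_center_iff k).mp hz'
      exact Algebra.mem_bot.mpr ⟨c, by rw [← e0.apply_symm_apply z, hc, AlgEquiv.commutes]⟩⟩
    obtain ⟨u, hu⟩ := Groth.Agent.H29CSA.skolem_noether (φ.comp ι) (Algebra.lmul k K)
    set f : Module.End k K := (↑u⁻¹ : Module.End k K) * φ y * (u : Module.End k K) with hf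
    have hfrel : ∀ z : K, Algebra.lmul k K z * f = f * Algebra.lmul k K (σ z) := by
      intro z
      have h1 : ∀ z : K, Algebra.lmul k K z = (↑u⁻¹ : Module.End k K) * φ (ι z) * (u : Module.End k K) := by
        intro z
        have := hu z
        rw [AlgHom.comp_apply] at this
        rw [this]
        simp [mul_assoc]
      have h2 : φ (ι z) * φ y = φ y * φ (ι (σ z)) := by rw [← map_mul, ← map_mul, hrel]
      rw [h1, h1, hf]
      simp only [mul_assoc, Units.mul_inv_cancel_left]
      rw [← mul_assoc (φ (ι z)), h2, mul_assoc]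
    have hfeq : f = semiMul σ (f 1) := by
      clear_value f
      clear hf
      refine LinearMap.ext fun v => ?_
      have := LinearMap.congr_fun (hfrel ((σ⁻¹ : K ≃ₐ[k] K) v)) 1
      rw [Module.End.mul_apply, Module.End.mul_apply] at this
      simp only [Algebra.coe_lmul_eq_mul, LinearMap.mul_apply', mul_one] at this
      rw [show σ ((σ⁻¹ : K ≃ₐ[k] K) v) = v from σ.apply_symm_apply v] at this
      simpa [semiMul_apply, mul_comm] using this.symm
    refine ⟨f 1, (algebraMap k (Module.End k K)).injective ?_⟩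
    rw [← semiMul_pow hσ, ← hfeq, hf, Units.conj_pow', ← map_pow, hyn, AlgHom.commutes,
      mul_assoc, Algebra.commutes (b : k) (u : Module.End k K), ← mul_assoc, Units.inv_mul, one_mul]
  · rintro ⟨x, hx⟩
    obtain ⟨φ, -, -⟩ := exists_algHom_cyclic hσ hdim ι y b hyn hrel (Algebra.lmul k K) (semiMul σ x)
      (by rw [semiMul_pow hσ, hx]) (semiMul_rel σ x)
    let eA : A ≃ₐ[k] Module.End k K := Groth.Agent.H29CSA.equivOfFinrankEq φ
      (by rw [hdim, Module.finrank_linearMap]; ring)
    exact ⟨n, Module.finrank_pos.ne', ⟨((Algebra.TensorProduct.lid k A).trans eA).trans e0.symm⟩⟩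

section listprod

variable {B : Type w} [Monoid B]

theorem commute_prod_ofFn {m : ℕ} (c : B) (f : Fin m → B) (h : ∀ i, Commute c (f i)) :
    Commute c (List.ofFn f).prod :=
  Commute.list_prod_right _ _ fun x hx => by
    obtain ⟨i, rfl⟩ := List.mem_ofFn.mp hx; exact h i

theorem prod_ofFn_mul {m : ℕ} (f g : Fin m → B) (h : ∀ i j, i ≠ j → Commute (g i) (f j)) :
    (List.ofFn fun i => f i * g i).prod = (List.ofFn f).prod * (List.ofFn g).prod := by
  induction m with
  | zero => simp
  | succ m ih =>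
    simp only [List.ofFn_succ, List.prod_cons]
    rw [ih (fun i => f i.succ) (fun i => g i.succ) fun i j hij => h _ _ fun e => hij (Fin.succ_inj.mp e),
      mul_assoc (f 0), mul_assoc (f 0), ← mul_assoc (g 0),
      (commute_prod_ofFn (g 0) _ fun j => h 0 j.succ (Fin.succ_ne_zero j).symm).eq, mul_assoc]

theorem prod_ofFn_eq_single {m : ℕ} (f : Fin m → B) (i : Fin m) (h : ∀ j, j ≠ i → f j = 1) :
    (List.ofFn f).prod = f i := by
  induction m with
  | zero => exact i.elim0
  | succ m ih =>
    rw [List.ofFn_succ, List.prod_cons]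
    induction i using Fin.cases with
    | zero =>
      rw [List.prod_eq_one, mul_one]
      intro x hx
      obtain ⟨j, rfl⟩ := List.mem_ofFn.mp hx
      exact h _ (Fin.succ_ne_zero j)
    | succ i =>
      rw [h 0 (Fin.succ_ne_zero i).symm, one_mul,
        ih (fun j => f j.succ) i fun j hj => h _ fun e => hj (Fin.succ_inj.mp e)]

end listprod

/-- Tensor powers of a cyclic algebra: generating commuting copies inside matrices. -/
theorem exists_powers (hσ : ∀ τ : K ≃ₐ[k] K, τ ∈ Subgroup.zpowers σ) (b : kˣ)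
    {A : Type w} [Ring A] [Algebra k A] (hA : CSAGal.IsCyclicAlg k K σ b A) (e : ℕ) :
    ∀ (C : Type v) [Ring C] [Algebra k C], CSAGal.IsCyclicAlg k K σ (b ^ (e + 1)) C →
      ∃ (G : Type) (_ : Fintype G) (_ : DecidableEq G) (φ : Fin (e + 1) → (A →ₐ[k] Matrix G G C)),
        Fintype.card G = Module.finrank k K ^ e ∧
        (∀ i j, i ≠ j → ∀ a a', Commute (φ i a) (φ j a')) ∧ ⨆ i, (φ i).range = ⊤ := by
  classical
  induction e with
  | zero =>
    intro C _ _ hC
    rw [zero_add, pow_one] at hC
    obtain ⟨_, _, hdA, ιA, yA, hynA, hrelA⟩ := exists_unit_of_isCyclicAlg hA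
    obtain ⟨_, _, hdC, ιC, yC, hynC, hrelC⟩ := exists_unit_of_isCyclicAlg hC
    have := isSimpleRing ιA yA hrelA hσ hdA
    obtain ⟨ψ, -, -⟩ := exists_algHom_cyclic hσ hdA ιA yA b hynA hrelA ιC (yC : C) hynC hrelC
    let E : A ≃ₐ[k] Matrix Unit Unit C := (Groth.Agent.H29CSA.equivOfFinrankEq ψ (hdA.trans hdC.symm)).trans
      (Matrix.uniqueAlgEquiv (m := Unit) (A := C) (R := k)).symm
    refine ⟨Unit, inferInstance, inferInstance, fun _ => E.toAlgHom, by simp,
      fun i j hij => absurd (Subsingleton.elim (α := Fin 1) i j) hij, ?_⟩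
    rw [iSup_const, AlgHom.range_eq_top]
    exact E.surjective
  | succ e ih =>
    intro C _ _ hC
    obtain ⟨D, _, _, hD⟩ := exists_isCyclicAlg hσ (b ^ (e + 1))
    obtain ⟨G, _, _, ψ, hcard, hcomm, htop⟩ := ih D hD
    obtain ⟨Φ⟩ := exists_tensor_equiv hσ b (b ^ (e + 1)) hA hD (by rwa [← pow_succ'])
    set n := Module.finrank k K with hn
    let F : Matrix G G D →ₐ[k] Matrix G G (Matrix (Fin n) (Fin n) C) :=
      (Φ.toAlgHom.comp Algebra.TensorProduct.includeRight).mapMatrix
    let φ0 : A →ₐ[k] Matrix G G (Matrix (Fin n) (Fin n) C) :=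
      (Matrix.scalarAlgHom G k).comp (Φ.toAlgHom.comp Algebra.TensorProduct.includeLeft)
    let χ : Fin (e + 2) → (A →ₐ[k] Matrix G G (Matrix (Fin n) (Fin n) C)) :=
      Fin.cases φ0 fun i => F.comp (ψ i)
    have h0 : ∀ a M, Commute (φ0 a) (F M) := by
      intro a M
      ext i j : 2
      simp [φ0, F, ← map_mul, Algebra.TensorProduct.tmul_mul_tmul]
    have hχtop : ⨆ i, (χ i).range = ⊤ := by
      set S := ⨆ i, (χ i).range with hS
      have hF : ∀ M, F M ∈ S := by
        intro M
        have : (⨆ i, (ψ i).range).map F ≤ S := by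
          rw [(Subalgebra.gc_map_comap _).l_iSup, iSup_le_iff]
          intro i
          rw [← AlgHom.range_comp]
          exact le_iSup (fun i => (χ i).range) i.succ
        rw [htop] at this
        exact this ⟨M, Algebra.mem_top, rfl⟩
      have hscalar : ∀ c, Matrix.scalar G c ∈ S := by
        intro c
        obtain ⟨t, rfl⟩ := Φ.surjective c
        induction t using TensorProduct.induction_on with
        | zero => rw [map_zero, map_zero]; exact S.zero_mem
        | tmul a d =>
          have h1 : φ0 a ∈ S := le_iSup (fun i => (χ i).range) 0 ⟨a, rfl⟩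
          have h2 : F (Matrix.scalar G d) = Matrix.scalar G (Φ (1 ⊗ₜ d)) := by
            ext i j : 2
            simp [F, Matrix.diagonal_apply, apply_ite]
          have h3 := S.mul_mem h1 (hF (Matrix.scalar G d))
          rw [h2] at h3
          simpa [φ0, ← map_mul, Algebra.TensorProduct.tmul_mul_tmul] using h3
        | add p q hp hq => rw [map_add, map_add]; exact S.add_mem hp hq
      refine eq_top_iff.mpr fun M _ => ?_
      rw [Matrix.matrix_eq_sum_single M]
      refine Subalgebra.sum_mem _ fun i _ => Subalgebra.sum_mem _ fun j _ => ?_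
      have : Matrix.single i j (M i j) = Matrix.scalar G (M i j) * F (Matrix.single i j 1) := by
        ext x y : 2
        simp [F, Matrix.single_apply, apply_ite, ← Algebra.TensorProduct.one_def]
      rw [this]
      exact S.mul_mem (hscalar _) (hF _)
    let E : Matrix G G (Matrix (Fin n) (Fin n) C) ≃ₐ[k] Matrix (G × Fin n) (G × Fin n) C :=
      Matrix.compAlgEquiv G (Fin n) C k
    refine ⟨G × Fin n, inferInstance, inferInstance, fun i => E.toAlgHom.comp (χ i),
      by rw [Fintype.card_prod, hcard, Fintype.card_fin, pow_succ], ?_, ?_⟩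
    · intro i j hij a a'
      refine Commute.map ?_ E.toAlgHom
      induction i using Fin.cases with
      | zero =>
        induction j using Fin.cases with
        | zero => exact absurd rfl hij
        | succ j => exact h0 a _
      | succ i =>
        induction j using Fin.cases with
        | zero => exact (h0 a' _).symm
        | succ j => exact (hcomm i j (fun h => hij (congrArg _ h)) a a').map F
    · simp only [AlgHom.range_comp, ← (Subalgebra.gc_map_comap _).l_iSup, hχtop, Algebra.map_top, AlgHom.range_eq_top]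
      exact E.surjective

/-- Splitting of tensor powers of a cyclic algebra. -/
theorem splits_tpow_iff (hσ : ∀ τ : K ≃ₐ[k] K, τ ∈ Subgroup.zpowers σ) (b : kˣ)
    {A : Type w} [Ring A] [Algebra k A] (hA : CSAGal.IsCyclicAlg k K σ b A) {e : ℕ} (he : 0 < e) :
    Curves.Splits k (CSAGal.tpow k A e) k ↔ ∃ x : K, Algebra.norm k x = (b : k) ^ e := by
  classical
  obtain ⟨e, rfl⟩ := Nat.exists_eq_add_of_le' he
  obtain ⟨C, _, _, hC⟩ := exists_isCyclicAlg hσ (b ^ (e + 1))
  obtain ⟨G, _, _, φ, hcard, hcomm, htop⟩ := exists_powers hσ b hA e C hC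
  obtain ⟨_, _, hdA, -⟩ := exists_unit_of_isCyclicAlg hA
  obtain ⟨_, _, hdC, ιC, yC, -, hrelC⟩ := exists_unit_of_isCyclicAlg hC
  have := isSimpleRing ιC yC hrelC hσ hdC
  have := isCentral ιC yC hrelC hσ hdC
  let f : MultilinearMap k (fun _ : Fin (e + 1) => A) (Matrix G G C) :=
    (MultilinearMap.mkPiAlgebraFin k (e + 1) (Matrix G G C)).compLinearMap fun i => (φ i).toLinearMap
  have hf : ∀ x, f x = (List.ofFn fun i => φ i (x i)).prod := fun x => rfl
  let Ψ : CSAGal.tpow k A (e + 1) →ₐ[k] Matrix G G C := PiTensorProduct.liftAlgHom f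
    (by rw [hf]; simp)
    (fun x y => by
      rw [hf, hf, hf, ← prod_ofFn_mul _ _ fun i j hij => hcomm i j hij _ _]
      simp)
  have hsingle : ∀ (i : Fin (e + 1)) (a : A),
      Ψ (PiTensorProduct.singleAlgHom (A := fun _ => A) i a) = φ i a := by
    intro i a
    show PiTensorProduct.lift f (PiTensorProduct.tprod k (Pi.mulSingle i a)) = _
    rw [PiTensorProduct.lift.tprod, hf, prod_ofFn_eq_single _ i]
    · rw [Pi.mulSingle_eq_same]
    · intro j hj; rw [Pi.mulSingle_eq_of_ne hj, map_one]
  have hsurj : Function.Surjective Ψ := by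
    rw [← AlgHom.range_eq_top, eq_top_iff, ← htop, iSup_le_iff]
    rintro i _ ⟨a, rfl⟩
    exact ⟨_, hsingle i a⟩
  have hdim : Module.finrank k (CSAGal.tpow k A (e + 1)) = Module.finrank k (Matrix G G C) := by
    rw [Module.finrank_eq_card_basis (Basis.piTensorProduct fun _ => Module.finBasis k A),
      Module.finrank_matrix, hcard, hdC, Fintype.card_fun, Fintype.card_fin, Fintype.card_fin, hdA]
    ring
  let E0 : CSAGal.tpow k A (e + 1) ≃ₐ[k] Matrix G G C := AlgEquiv.ofBijective Ψ
    ⟨(LinearMap.injective_iff_surjective_of_finrank_eq_finrank (f := Ψ.toLinearMap) hdim).mpr hsurj, hsurj⟩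
  let E := E0.trans (Matrix.reindexAlgEquiv k C (Fintype.equivFin G))
  have hG : Fintype.card G ≠ 0 := by rw [hcard]; exact pow_ne_zero _ Module.finrank_pos.ne'
  rw [← Units.val_pow_eq_pow_val, ← splits_iff_norm hσ (b ^ (e + 1)) hC]
  exact ⟨fun h => Groth.Agent.H29CSA.splits_of_matrix C k hG (Groth.Agent.H29CSA.splits_congr E h),
    fun h => Groth.Agent.H29CSA.splits_congr E.symm (Groth.Agent.H29CSA.splits_matrix C k _ hG h)⟩

end Groth.Agent.H23CSA.Cyclic
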