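import Mathlib
import Groth.Agent.H29CSA.Split
import Groth.Prelude.Def_GSzCSA

/-!
# Reduced characteristic polynomials

For `f : A →ₐ[k] Matrix (Fin n) (Fin n) L` with `A` central simple of dimension `n ^ 2`, the
`n`-th power of the characteristic polynomial of `f a` is the characteristic polynomial of
left multiplication by `a`.
-/

set_option autoImplicit false

universe u v w

open TensorProduct Polynomial

namespace Groth.Agent.H23CSA

variable {k : Type u} [Field k]

theorem eq_of_pow_eq {F : Type*} [Field F] {p q : F[X]} (hp : p.Monic) (hq : q.Monic) {n : ℕ}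
    (hn : n ≠ 0) (h : p ^ n = q ^ n) : p = q :=
  Polynomial.eq_of_monic_of_associated hp hq
    (associated_of_dvd_dvd ((IsIntegrallyClosed.pow_dvd_pow_iff hn).mp h.dvd)
      ((IsIntegrallyClosed.pow_dvd_pow_iff hn).mp h.symm.dvd))

theorem charpoly_blockDiagonal {R : Type*} [CommRing R] {m o : Type*} [Fintype m] [DecidableEq m]
    [Fintype o] [DecidableEq o] (M : o → Matrix m m R) :
    (Matrix.blockDiagonal M).charpoly = ∏ i, (M i).charpoly := by
  unfold Matrix.charpoly
  have h : Matrix.charmatrix (Matrix.blockDiagonal M) =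
      Matrix.blockDiagonal fun i => Matrix.charmatrix (M i) := by
    ext ⟨i, a⟩ ⟨j, b⟩
    by_cases hab : a = b
    · subst hab
      by_cases hij : i = j
      · subst hij
        simp [Matrix.charmatrix]
      · simp [Matrix.charmatrix, hij]
    · simp [Matrix.charmatrix, hab, Matrix.blockDiagonal_apply]
  rw [h, Matrix.det_blockDiagonal]

theorem charpoly_mulLeft_matrix {R : Type*} [CommRing R] [Nontrivial R] {n : ℕ}
    (X : Matrix (Fin n) (Fin n) R) :
    (LinearMap.mulLeft R X).charpoly = X.charpoly ^ n := by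
  classical
  rw [← LinearMap.charpoly_toMatrix (LinearMap.mulLeft R X) (Matrix.stdBasis R (Fin n) (Fin n))]
  have h : LinearMap.toMatrix (Matrix.stdBasis R (Fin n) (Fin n))
      (Matrix.stdBasis R (Fin n) (Fin n)) (LinearMap.mulLeft R X) =
      Matrix.blockDiagonal fun _ : Fin n => X := by
    ext ⟨i, a⟩ ⟨j, b⟩
    rw [LinearMap.toMatrix_apply, Matrix.stdBasis_eq_single, LinearMap.mulLeft_apply,
      Matrix.blockDiagonal_apply]
    simp [Matrix.stdBasis, Matrix.mul_apply, Matrix.single, ite_and, eq_comm]
  rw [h, charpoly_blockDiagonal]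
  simp

variable {A : Type v} [Ring A] [Algebra k A] [Algebra.IsCentral k A] [IsSimpleRing A]
  [FiniteDimensional k A] {L : Type w} [Field L] [Algebra k L]

theorem charpoly_pow {n : ℕ} (hn : Module.finrank k A = n ^ 2)
    (f : A →ₐ[k] Matrix (Fin n) (Fin n) L) (a : A) :
    (f a).charpoly ^ n = (LinearMap.mulLeft k a).charpoly.map (algebraMap k L) := by
  have hn0 : n ≠ 0 := by
    rintro rfl
    have : 0 < Module.finrank k A := Module.finrank_pos
    simp [hn] at this
  have : NeZero n := ⟨hn0⟩
  let F : L ⊗[k] A →ₐ[L] Matrix (Fin n) (Fin n) L :=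
    Algebra.TensorProduct.lift (Algebra.ofId L (Matrix (Fin n) (Fin n) L)) f
      (fun l x => show Commute (Algebra.ofId L (Matrix (Fin n) (Fin n) L) l) (f x) from Algebra.commutes l (f x))
  have : IsSimpleRing (L ⊗[k] A) := Groth.Agent.H29CSA.baseChange_isSimpleRing A L
  have hinj : Function.Injective F := F.toRingHom.injective
  have hbij : Function.Bijective F.toLinearMap := by
    refine ⟨hinj, (LinearMap.injective_iff_surjective_of_finrank_eq_finrank ?_).mp hinj⟩
    rw [Module.finrank_baseChange, Module.finrank_matrix, Module.finrank_self, hn]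
    simp [sq]
  let e := LinearEquiv.ofBijective F.toLinearMap hbij
  have h1 : e.conj ((LinearMap.mulLeft k a).baseChange L) = LinearMap.mulLeft L (f a) := by
    refine LinearMap.ext fun M => ?_
    obtain ⟨z, rfl⟩ := e.surjective M
    rw [LinearEquiv.conj_apply_apply, LinearEquiv.symm_apply_apply, LinearMap.mulLeft_apply]
    have : (LinearMap.mulLeft k a).baseChange L z = (1 ⊗ₜ[k] a) * z := by
      induction z using TensorProduct.induction_on with
      | zero => simp
      | add u v hu hv => simp only [map_add, hu, hv, mul_add]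
      | tmul l x => simp
    rw [this]
    change F ((1 ⊗ₜ[k] a) * z) = f a * F z
    rw [map_mul]
    congr 1
    change Algebra.TensorProduct.lift _ f _ ((1 : L) ⊗ₜ[k] a) = f a
    simp
  rw [← charpoly_mulLeft_matrix, ← h1, LinearEquiv.charpoly_conj, LinearMap.charpoly_baseChange]

theorem charpoly_eq_of_pow {n : ℕ} (hn : Module.finrank k A = n ^ 2)
    (f : A →ₐ[k] Matrix (Fin n) (Fin n) L) (a : A) (p : k[X]) (hp : p.Monic)
    (h : (LinearMap.mulLeft k a).charpoly = p ^ n) :
    (f a).charpoly = p.map (algebraMap k L) := by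
  have hn0 : n ≠ 0 := by
    rintro rfl
    have : 0 < Module.finrank k A := Module.finrank_pos
    simp [hn] at this
  refine eq_of_pow_eq (Matrix.charpoly_monic _) (hp.map _) hn0 ?_
  rw [charpoly_pow hn f a, h, Polynomial.map_pow]

section Witness

variable (n : ℕ) (hn : Module.finrank k A = n ^ 2)
include hn

theorem exists_of_isRedNorm (N : A →* k) (hN : CSAGal.IsRedNorm k A N) :
    ∃ (K : Type u) (_ : Field K) (_ : Algebra k K) (f : A →ₐ[k] Matrix (Fin n) (Fin n) K),
      ∀ a, algebraMap k K (N a) = (f a).det := by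
  obtain ⟨K, _, _, _, m, φ, hφ⟩ := hN
  have hm : Module.finrank k A = m ^ 2 := Groth.Agent.H29CSA.finrank_eq_sq_of_splits A K φ
  obtain rfl : n = m := Nat.pow_left_injective (two_ne_zero) (hn.symm.trans hm)
  exact ⟨K, _, _, (φ.toAlgHom.restrictScalars k).comp Algebra.TensorProduct.includeRight, hφ⟩

theorem exists_of_isRedTrace (T : A →+ k) (hT : CSAGal.IsRedTrace k A T) :
    ∃ (K : Type u) (_ : Field K) (_ : Algebra k K) (f : A →ₐ[k] Matrix (Fin n) (Fin n) K),
      ∀ a, algebraMap k K (T a) = (f a).trace := by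
  obtain ⟨K, _, _, _, m, φ, hφ⟩ := hT
  have hm : Module.finrank k A = m ^ 2 := Groth.Agent.H29CSA.finrank_eq_sq_of_splits A K φ
  obtain rfl : n = m := Nat.pow_left_injective (two_ne_zero) (hn.symm.trans hm)
  exact ⟨K, _, _, (φ.toAlgHom.restrictScalars k).comp Algebra.TensorProduct.includeRight, hφ⟩

theorem redNorm_eq (N : A →* k) (hN : CSAGal.IsRedNorm k A N) (a : A) (p : k[X]) (hp : p.Monic)
    (h : (LinearMap.mulLeft k a).charpoly = p ^ n) : N a = (-1) ^ n * p.coeff 0 := by
  obtain ⟨K, _, _, f, hf⟩ := exists_of_isRedNorm n hn N hN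
  apply (algebraMap k K).injective
  rw [hf, Matrix.det_eq_sign_charpoly_coeff, charpoly_eq_of_pow hn f a p hp h,
    Polynomial.coeff_map, Fintype.card_fin]
  simp

theorem redTrace_eq (T : A →+ k) (hT : CSAGal.IsRedTrace k A T) (a : A) (p : k[X]) (hp : p.Monic)
    (h : (LinearMap.mulLeft k a).charpoly = p ^ n) : T a = -p.coeff (n - 1) := by
  obtain ⟨K, _, _, f, hf⟩ := exists_of_isRedTrace n hn T hT
  have hn0 : n ≠ 0 := by
    rintro rfl
    have : 0 < Module.finrank k A := Module.finrank_pos
    simp [hn] at this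
  have : Nonempty (Fin n) := ⟨⟨0, Nat.pos_of_ne_zero hn0⟩⟩
  apply (algebraMap k K).injective
  rw [hf, Matrix.trace_eq_neg_charpoly_coeff, charpoly_eq_of_pow hn f a p hp h,
    Polynomial.coeff_map, Fintype.card_fin, map_neg]

theorem norm_eq_redNorm_pow (N : A →* k) (hN : CSAGal.IsRedNorm k A N) (a : A) :
    Algebra.norm k a = N a ^ n := by
  obtain ⟨K, _, _, f, hf⟩ := exists_of_isRedNorm n hn N hN
  apply (algebraMap k K).injective
  rw [map_pow, hf, Algebra.norm_apply, LinearMap.det_eq_sign_charpoly_coeff]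
  have h := congrArg (fun q => Polynomial.coeff q 0) (charpoly_pow hn f a)
  simp only [Polynomial.coeff_map] at h
  rw [map_mul, map_pow, map_neg, map_one, show (Algebra.lmul k A) a = LinearMap.mulLeft k a from rfl,
    ← h, Matrix.det_eq_sign_charpoly_coeff, mul_pow, Fintype.card_fin, ← pow_mul, hn, ← sq,
    Polynomial.coeff_zero_eq_eval_zero, Polynomial.coeff_zero_eq_eval_zero, Polynomial.eval_pow]

theorem trace_eq_nsmul_redTrace (T : A →+ k) (hT : CSAGal.IsRedTrace k A T) (a : A) :
    LinearMap.trace k A (LinearMap.mulLeft k a) = n • T a := by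
  obtain ⟨K, _, _, f, hf⟩ := exists_of_isRedTrace n hn T hT
  apply (algebraMap k K).injective
  rw [map_nsmul, hf]
  have hn0 : n ≠ 0 := by
    rintro rfl
    have : 0 < Module.finrank k A := Module.finrank_pos
    simp [hn] at this
  have : Nonempty (Fin n) := ⟨⟨0, Nat.pos_of_ne_zero hn0⟩⟩
  let b := Module.finBasis k A
  have hpos : 0 < Module.finrank k A := Module.finrank_pos
  have : Nonempty (Fin (Module.finrank k A)) := ⟨⟨0, hpos⟩⟩
  rw [LinearMap.trace_eq_matrix_trace k b, Matrix.trace_eq_neg_charpoly_nextCoeff,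
    LinearMap.charpoly_toMatrix, Matrix.trace_eq_neg_charpoly_nextCoeff, map_neg,
    ← Polynomial.nextCoeff_map (algebraMap k K).injective, ← charpoly_pow hn f a,
    Polynomial.Monic.nextCoeff_pow (Matrix.charpoly_monic _), smul_neg]

end Witness

/-- A subfield of degree `n`: left multiplication has charpoly a power of the field one. -/
theorem charpoly_mulLeft_subfield {K : Type w} [Field K] [Algebra k K] [FiniteDimensional k K]
    (ι : K →ₐ[k] A) {n : ℕ} (hn : Module.finrank k A = n ^ 2) (hK : Module.finrank k K = n)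
    (x : K) :
    (LinearMap.mulLeft k (ι x)).charpoly = (Algebra.lmul k K x).charpoly ^ n := by
  classical
  letI : Module K A := Module.compHom A ι.toRingHom
  have hsmul : ∀ (c : K) (z : A), c • z = ι c * z := fun _ _ => rfl
  haveI : IsScalarTower k K A := ⟨fun r c z => by
    rw [hsmul, hsmul, map_smul, smul_mul_assoc]⟩
  haveI : Module.Finite K A := Module.Finite.of_restrictScalars_finite k K A
  have hn0 : n ≠ 0 := by
    rintro rfl
    have : 0 < Module.finrank k A := Module.finrank_pos
    simp [hn] at this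
  have hrank : Module.finrank K A = n := by
    have := Module.finrank_mul_finrank k K A
    rw [hK, hn, sq] at this
    exact Nat.eq_of_mul_eq_mul_left (Nat.pos_of_ne_zero hn0) this
  let bK := Module.finBasisOfFinrankEq k K hK
  let bA := Module.finBasisOfFinrankEq K A hrank
  rw [← LinearMap.charpoly_toMatrix (LinearMap.mulLeft k (ι x)) (bK.smulTower bA),
    ← LinearMap.charpoly_toMatrix (Algebra.lmul k K x) bK]
  have h : LinearMap.toMatrix (bK.smulTower bA) (bK.smulTower bA) (LinearMap.mulLeft k (ι x)) =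
      Matrix.blockDiagonal fun _ : Fin n => LinearMap.toMatrix bK bK (Algebra.lmul k K x) := by
    ext ⟨i, a⟩ ⟨j, b⟩
    rw [LinearMap.toMatrix_apply, Module.Basis.smulTower_apply, LinearMap.mulLeft_apply,
      Matrix.blockDiagonal_apply, Module.Basis.smulTower_repr_mk]
    have hh : ι x * (bK j • bA b) = (x * bK j) • bA b := by
      rw [hsmul, hsmul, map_mul, mul_assoc]
    simp only [] at hh ⊢
    rw [hh, map_smul, Finsupp.smul_apply, bA.repr_self, Finsupp.single_apply, LinearMap.toMatrix_apply]
    by_cases hab : a = b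
    · subst hab; simp
    · simp [hab, Ne.symm hab]
  rw [h, charpoly_blockDiagonal]
  simp

end Groth.Agent.H23CSA
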