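import Mathlib
import Groth.Agent.H29CSA.Basic

/-!
Semisimple algebras with separable centre stay semisimple after any field extension.
-/

set_option autoImplicit false
set_option linter.style.haveILetI false
universe u v w

open TensorProduct

namespace Groth.Agent.H23CSA.SepBaseChange

variable (k : Type u) [Field k] (k' : Type w) [Field k'] [Algebra k k']

set_option maxHeartbeats 1000000 in
theorem aux (D : Type v) [Ring D] [Algebra k D] [FiniteDimensional k D] [IsSimpleRing D]
    (Z : Type v) [Field Z] [Algebra k Z] [Algebra Z D] [IsScalarTower k Z D]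
    [FiniteDimensional k Z] [Algebra.IsSeparable k Z] [Algebra.IsCentral Z D] :
    IsSemisimpleRing (D ⊗[k] k') := by
  classical
  haveI : Module.Finite Z D := Module.Finite.of_restrictScalars_finite k Z D
  haveI := Algebra.FormallyUnramified.of_isSeparable k Z
  haveI : IsReduced (k' ⊗[k] Z) := Algebra.FormallyUnramified.isReduced_of_field k' _
  haveI : IsReduced (Z ⊗[k] k') :=
    isReduced_of_injective (Algebra.TensorProduct.comm k Z k').toAlgHom
      (Algebra.TensorProduct.comm k Z k').injective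
  haveI : IsArtinianRing (k' ⊗[k] Z) := IsArtinianRing.of_finite k' _
  haveI : IsArtinianRing (Z ⊗[k] k') :=
    (Algebra.TensorProduct.comm k k' Z).toRingEquiv.isArtinianRing
  haveI := Fintype.ofFinite (MaximalSpectrum (Z ⊗[k] k'))
  have hfac : ∀ I : MaximalSpectrum (Z ⊗[k] k'),
      IsSemisimpleRing (D ⊗[Z] ((Z ⊗[k] k') ⧸ I.asIdeal)) := fun I => by
    letI : Field ((Z ⊗[k] k') ⧸ I.asIdeal) := Ideal.Quotient.field I.asIdeal
    haveI : IsSimpleRing (((Z ⊗[k] k') ⧸ I.asIdeal) ⊗[Z] D) :=
      Groth.Agent.H29CSA.tensor_isSimpleRing Z ((Z ⊗[k] k') ⧸ I.asIdeal) D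
    haveI : IsSimpleRing (D ⊗[Z] ((Z ⊗[k] k') ⧸ I.asIdeal)) :=
      IsSimpleRing.of_ringEquiv
        (Algebra.TensorProduct.comm Z ((Z ⊗[k] k') ⧸ I.asIdeal) D).toRingEquiv inferInstance
    haveI : IsArtinianRing (((Z ⊗[k] k') ⧸ I.asIdeal) ⊗[Z] D) :=
      IsArtinianRing.of_finite ((Z ⊗[k] k') ⧸ I.asIdeal) _
    haveI : IsArtinianRing (D ⊗[Z] ((Z ⊗[k] k') ⧸ I.asIdeal)) :=
      (Algebra.TensorProduct.comm Z ((Z ⊗[k] k') ⧸ I.asIdeal) D).toRingEquiv.isArtinianRing
    exact IsSimpleRing.isSemisimpleRing_iff_isArtinianRing.mpr inferInstance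
  haveI : IsSemisimpleRing (D ⊗[Z] (Z ⊗[k] k')) :=
    ((Algebra.TensorProduct.congr AlgEquiv.refl
      ((IsArtinianRing.equivPi (Z ⊗[k] k')).restrictScalars Z)).trans
      (Algebra.TensorProduct.piRight Z Z D
        (fun I : MaximalSpectrum (Z ⊗[k] k') =>
          (Z ⊗[k] k') ⧸ I.asIdeal))).symm.toRingEquiv.isSemisimpleRing
  let f : (Z ⊗[k] k') →ₐ[Z] (D ⊗[k] k') :=
    Algebra.TensorProduct.map (Algebra.ofId Z D) (AlgHom.id k k')
  let g : D →ₐ[Z] (D ⊗[k] k') := Algebra.TensorProduct.includeLeft
  have hc : ∀ (d : D) (r : Z ⊗[k] k'), Commute (g d) (f r) := by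
    intro d r
    induction r using TensorProduct.induction_on with
    | zero => simp
    | tmul z c =>
      simp [f, g, Commute, SemiconjBy, Algebra.TensorProduct.tmul_mul_tmul, Algebra.commutes]
    | add x y hx hy => rw [map_add]; exact hx.add_right hy
  refine RingHom.isSemisimpleRing_of_surjective (Algebra.TensorProduct.lift g f hc).toRingHom ?_
  intro t
  induction t using TensorProduct.induction_on with
  | zero => exact ⟨0, map_zero _⟩
  | tmul d c =>
    refine ⟨d ⊗ₜ ((1 : Z) ⊗ₜ[k] c), ?_⟩
    simp [f, g, Algebra.TensorProduct.tmul_mul_tmul]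
  | add x y hx hy =>
    obtain ⟨a, ha⟩ := hx
    obtain ⟨b, hb⟩ := hy
    exact ⟨a + b, by rw [map_add, ha, hb]⟩

theorem isSemisimpleRing_div_tensor (D : Type v) [DivisionRing D] [Algebra k D]
    [FiniteDimensional k D] (hsep : ∀ z ∈ Subalgebra.center k D, IsSeparable k z) :
    IsSemisimpleRing (D ⊗[k] k') := by
  have hZ : IsField (Subalgebra.center k D) :=
    (fieldOfFiniteDimensional k (Subalgebra.center k D)).toIsField
  letI : Field (Subalgebra.center k D) := hZ.toField
  letI : Algebra (Subalgebra.center k D) D := (Subalgebra.center k D).val.toRingHom.toAlgebra'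
    fun c x => (Subalgebra.mem_center_iff.mp c.2 x).symm
  haveI : IsScalarTower k (Subalgebra.center k D) D :=
    IsScalarTower.of_algebraMap_eq fun _ => rfl
  haveI : Algebra.IsSeparable k (Subalgebra.center k D) := ⟨fun z => by
    have h := hsep z.1 z.2
    unfold IsSeparable at h ⊢
    rwa [← minpoly.algHom_eq (Subalgebra.center k D).val Subtype.val_injective z]⟩
  haveI : Algebra.IsCentral (Subalgebra.center k D) D := ⟨fun d hd => by
    rw [Algebra.mem_bot]
    refine ⟨⟨d, ?_⟩, rfl⟩
    rw [Subalgebra.mem_center_iff]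
    exact Subalgebra.mem_center_iff.mp hd⟩
  exact @aux k _ k' _ _ D _ _ _ _ (Subalgebra.center k D) hZ.toField _ _ ‹_› _ _ ‹_›

theorem isSemisimpleRing_tensor (A : Type v) [Ring A] [Algebra k A] [FiniteDimensional k A]
    [IsSemisimpleRing A] [Algebra.IsSeparable k (Subalgebra.center k A)] :
    IsSemisimpleRing (k' ⊗[k] A) := by
  classical
  obtain ⟨n, D, d, _, _, _, hd, ⟨e⟩⟩ :=
    IsSemisimpleRing.exists_algEquiv_pi_matrix_divisionRing_finite k (R := A)
  have hsep : ∀ i, ∀ z ∈ Subalgebra.center k (D i), IsSeparable k z := by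
    intro i z hz
    haveI := hd i
    let M := fun j => Matrix (Fin (d j)) (Fin (d j)) (D j)
    let w : ∀ j, M j := Pi.single i (Matrix.scalarAlgHom (Fin (d i)) k z)
    have hw : e.symm w ∈ Subalgebra.center k A := by
      rw [Subalgebra.mem_center_iff]
      intro a
      apply e.injective
      rw [map_mul, map_mul, e.apply_symm_apply]
      ext1 j
      rcases eq_or_ne j i with rfl | hj
      · simp only [Pi.mul_apply, w, Pi.single_eq_same]
        exact ((Matrix.scalar_commute z
          (fun r => (Subalgebra.mem_center_iff.mp hz r).symm) _).eq).symm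
      · simp [w, Pi.single_eq_of_ne hj]
    have hs := Algebra.IsSeparable.isSeparable k (⟨e.symm w, hw⟩ : Subalgebra.center k A)
    refine Polynomial.Separable.of_dvd hs (minpoly.dvd k z ?_)
    set p := minpoly k (⟨e.symm w, hw⟩ : Subalgebra.center k A)
    have h1 : Polynomial.aeval w p = 0 := by
      have h0 := minpoly.aeval k (⟨e.symm w, hw⟩ : Subalgebra.center k A)
      have := congrArg (e.toAlgHom.comp (Subalgebra.center k A).val) h0
      rw [← Polynomial.aeval_algHom_apply, map_zero] at this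
      simpa using this
    have h2 := congrArg (Pi.evalAlgHom k M i) h1
    rw [← Polynomial.aeval_algHom_apply, map_zero] at h2
    simp only [Pi.evalAlgHom_apply, w, Pi.single_eq_same] at h2
    rw [Polynomial.aeval_algHom_apply] at h2
    have h3 := congrFun (congrFun h2 0) 0
    simpa [Matrix.scalarAlgHom, M] using h3
  haveI : ∀ i, IsSemisimpleRing (k' ⊗[k] Matrix (Fin (d i)) (Fin (d i)) (D i)) := fun i => by
    haveI := isSemisimpleRing_div_tensor k k' (D i) (hsep i)
    haveI : IsSemisimpleRing (k' ⊗[k] D i) :=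
      (Algebra.TensorProduct.comm k (D i) k').toRingEquiv.isSemisimpleRing
    exact ((Algebra.TensorProduct.congr AlgEquiv.refl
      (matrixEquivTensor (Fin (d i)) k (D i))).trans
      ((Algebra.TensorProduct.assoc k k k k' (D i) (Matrix (Fin (d i)) (Fin (d i)) k)).symm.trans
      (matrixEquivTensor (Fin (d i)) k (k' ⊗[k] D i)).symm)).symm.toRingEquiv.isSemisimpleRing
  exact ((Algebra.TensorProduct.congr AlgEquiv.refl e).trans
    (Algebra.TensorProduct.piRight k k k'
      (fun i => Matrix (Fin (d i)) (Fin (d i)) (D i)))).symm.toRingEquiv.isSemisimpleRing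

end Groth.Agent.H23CSA.SepBaseChange
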